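import Groth.Agent.TorsorLimLib.Basic
import Groth.Agent.AlgSpLib.Sep
import Groth.Agent.S0114
import Groth.Agent.S5939
import Mathlib.CategoryTheory.Limits.Preserves.Shapes.Pullbacks

/-!
# Flat quotients over the stages of an affine limit
-/

set_option autoImplicit false
set_option backward.isDefEq.respectTransparency false
set_option backward.isDefEq.respectTransparency.types false
set_option linter.style.haveILetI false
set_option maxHeartbeats 1000000

noncomputable section

universe u

open CategoryTheory CategoryTheory.Limits MonoidalCategory CartesianMonoidalCategory AlgebraicGeometry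
open RichLib GrpLimLib

namespace QuotLimLib

/-- `p` presents its target as the flat quotient by the pair `(s, t)`. -/
def IsQuot {S : Scheme.{u}} {R X Y : Over S} (s t : R ⟶ X) (p : X ⟶ Y) : Prop :=
  Flat p.left ∧ Surjective p.left ∧ LocallyOfFinitePresentation p.left ∧ IsPullback s t p p

/-- The flat quotient exists. -/
def HasQuot {S : Scheme.{u}} {R X : Over S} (s t : R ⟶ X) : Prop :=
  ∃ (Y : Over S) (p : X ⟶ Y), IsQuot s t p

theorem isQuot_iso {S : Scheme.{u}} {R X Y R' X' Y' : Over S} {s t : R ⟶ X} {p : X ⟶ Y} {s' t' : R' ⟶ X'}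
    {p' : X' ⟶ Y'} (eR : R ≅ R') (eX : X ≅ X') (eY : Y ≅ Y') (hs : s ≫ eX.hom = eR.hom ≫ s')
    (ht : t ≫ eX.hom = eR.hom ≫ t') (hp : p ≫ eY.hom = eX.hom ≫ p') (h : IsQuot s t p) : IsQuot s' t' p' := by
  obtain ⟨h1, h2, h3, h4⟩ := h
  haveI := h1; haveI := h2; haveI := h3
  haveI : IsIso eX.inv.left := inferInstanceAs (IsIso ((Over.forget S).map eX.inv))
  haveI : IsIso eY.hom.left := inferInstanceAs (IsIso ((Over.forget S).map eY.hom))
  have e : p'.left = eX.inv.left ≫ p.left ≫ eY.hom.left := by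
    rw [← Over.comp_left, ← Over.comp_left, hp, Iso.inv_hom_id_assoc]
  refine ⟨?_, ?_, ?_, h4.of_iso eR eX eX eY hs ht hp hp⟩
  · rw [e]; infer_instance
  · rw [e]; infer_instance
  · rw [e]; infer_instance

/-- The base change of a morphism of the over category. -/
theorem isPullback_map_left {S S' : Scheme.{u}} (g : S' ⟶ S) {X Y : Over S} (v : X ⟶ Y) :
    IsPullback (pullback.fst X.hom g) ((Over.pullback g).map v).left v.left (pullback.fst Y.hom g) := by
  refine IsPullback.of_bot ?_ (map_left_fst g v).symm (IsPullback.of_hasPullback Y.hom g)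
  rw [show ((Over.pullback g).map v).left ≫ pullback.snd Y.hom g = pullback.snd X.hom g from
    Over.w ((Over.pullback g).map v), Over.w v]
  exact IsPullback.of_hasPullback X.hom g

theorem isQuot_map {S S' : Scheme.{u}} (g : S' ⟶ S) {R X Y : Over S} {s t : R ⟶ X} {p : X ⟶ Y}
    (h : IsQuot s t p) :
    IsQuot ((Over.pullback g).map s) ((Over.pullback g).map t) ((Over.pullback g).map p) :=
  ⟨MorphismProperty.of_isPullback (isPullback_map_left g p) h.1,
    MorphismProperty.of_isPullback (isPullback_map_left g p) h.2.1,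
    MorphismProperty.of_isPullback (isPullback_map_left g p) h.2.2.1, h.2.2.2.map (Over.pullback g)⟩

theorem hasQuot_comp {S S' S'' : Scheme.{u}} {b : S'' ⟶ S'} {g : S' ⟶ S} {bg : S'' ⟶ S} (h : b ≫ g = bg)
    {R X : Over S} {s t : R ⟶ X} (hq : HasQuot ((Over.pullback g).map s) ((Over.pullback g).map t)) :
    HasQuot ((Over.pullback bg).map s) ((Over.pullback bg).map t) := by
  obtain ⟨Y, p, hp⟩ := hq
  exact ⟨_, (compIso₂ h X).inv ≫ (Over.pullback b).map p,
    isQuot_iso (compIso₂ h R) (compIso₂ h X) (Iso.refl _) (compIso₂_naturality h s) (compIso₂_naturality h t)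
      (by rw [Iso.refl_hom, Category.comp_id, Iso.hom_inv_id_assoc]) (isQuot_map b hp)⟩

theorem hasQuot_nested {S S' S'' : Scheme.{u}} {b : S'' ⟶ S'} {g : S' ⟶ S} {bg : S'' ⟶ S} (h : b ≫ g = bg)
    {R X : Over S} {s t : R ⟶ X} (hq : HasQuot ((Over.pullback b).map ((Over.pullback g).map s))
      ((Over.pullback b).map ((Over.pullback g).map t))) :
    HasQuot ((Over.pullback bg).map s) ((Over.pullback bg).map t) := by
  obtain ⟨Y, p, hp⟩ := hq
  exact ⟨Y, (compIso₂ h X).inv ≫ p,
    isQuot_iso (compIso₂ h R) (compIso₂ h X) (Iso.refl _) (compIso₂_naturality h s) (compIso₂_naturality h t)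
      (by rw [Iso.refl_hom, Category.comp_id, Iso.hom_inv_id_assoc]) hp⟩

/-- The covering of a flat quotient is quasi-compact. -/
theorem quasiCompact_of_isPullback {R X Y : Scheme.{u}} {s t : R ⟶ X} {p : X ⟶ Y} (h : IsPullback s t p p)
    [Flat p] [Surjective p] [LocallyOfFinitePresentation p] [QuasiCompact t] : QuasiCompact p := by
  haveI : UniversallyOpen p := inferInstance
  refine ⟨fun V hVo hV => ?_⟩
  let P : X.Opens := p ⁻¹ᵁ ⟨V, hVo⟩
  obtain ⟨F, hF⟩ := hV.elim_finite_subcover
    (fun W : {W : X.Opens // IsAffineOpen W ∧ W ≤ P} => p '' (W.1 : Set X))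
    (fun W => p.isOpenMap _ W.1.2) fun y hy => by
      obtain ⟨x, rfl⟩ := p.surjective y
      obtain ⟨W, hW, hxW, hWP⟩ := exists_isAffineOpen_mem_and_subset (X := X) (x := x) (U := P) hy
      exact Set.mem_iUnion.mpr ⟨⟨W, hW, hWP⟩, x, hxW, rfl⟩
  have hU : p ⁻¹' V = s '' (⋃ W ∈ F, t ⁻¹' (W.1 : Set X)) := by
    refine Set.Subset.antisymm (fun x hx => ?_) ?_
    · obtain ⟨W, hWF, u, huW, hu⟩ := Set.mem_iUnion₂.mp (hF hx)
      obtain ⟨r, hr1, hr2⟩ := Scheme.Pullback.exists_preimage_pullback (f := p) (g := p) x u hu.symm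
      refine ⟨h.isoPullback.inv r, Set.mem_iUnion₂.mpr ⟨W, hWF, ?_⟩, ?_⟩
      · show (h.isoPullback.inv ≫ t) r ∈ (W.1 : Set X)
        rw [h.isoPullback_inv_snd, hr2]; exact huW
      · show (h.isoPullback.inv ≫ s) r = x
        rw [h.isoPullback_inv_fst, hr1]
    · rintro _ ⟨r, hr, rfl⟩
      obtain ⟨W, hWF, hr'⟩ := Set.mem_iUnion₂.mp hr
      show (s ≫ p) r ∈ V
      rw [h.w]; exact W.2.2 hr'
  show IsCompact (p ⁻¹' V)
  rw [hU]
  exact IsCompact.image (F.isCompact_biUnion fun W _ =>
    QuasiCompact.isCompact_preimage (f := t) _ W.1.2 W.2.1.isCompact) s.continuous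

/-- The quotient of a finitely presented scheme by a finitely presented relation is finitely presented. -/
theorem fp_of_isQuot {S : Scheme.{u}} {R X Y : Over S} {s t : R ⟶ X} {p : X ⟶ Y}
    [LocallyOfFinitePresentation X.hom] [QuasiCompact X.hom] [QuasiSeparated X.hom] [QuasiCompact R.hom]
    (h : IsQuot s t p) : LocallyOfFinitePresentation Y.hom ∧ QuasiCompact Y.hom ∧ QuasiSeparated Y.hom := by
  obtain ⟨h1, h2, h3, h4⟩ := h
  haveI : QuasiCompact (t.left ≫ X.hom) := by rw [Over.w t]; infer_instance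
  haveI : QuasiCompact t.left := QuasiCompact.of_comp t.left X.hom
  haveI : QuasiCompact ((Over.forget S).map t) := inferInstanceAs (QuasiCompact t.left)
  haveI : Flat ((Over.forget S).map p) := h1
  haveI : Surjective ((Over.forget S).map p) := h2
  haveI : LocallyOfFinitePresentation ((Over.forget S).map p) := h3
  haveI : QuasiCompact p.left := quasiCompact_of_isPullback (h4.map (Over.forget S))
  haveI : LocallyOfFinitePresentation (p.left ≫ Y.hom) := by rw [Over.w p]; infer_instance
  haveI : QuasiCompact (p.left ≫ Y.hom) := by rw [Over.w p]; infer_instance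
  haveI : QuasiSeparated (p.left ≫ Y.hom) := by rw [Over.w p]; infer_instance
  exact ⟨Groth.Agent.S0114.result p.left Y.hom, Groth.Agent.S5939.result p.left Y.hom⟩

section Sys

variable {I : Type u} [SmallCategory I] [IsCofiltered I] {S : Scheme.{u}} [CompactSpace S] (A : LimBC.Sys I S)
  {W : Scheme.{u}} (g : W ⟶ S)

/-- Flatness together with surjectivity descends to a stage. -/
theorem exists_at_flat_surjective [QuasiCompact g] [LocallyOfFinitePresentation g]
    (hf : Flat (pullback.snd g A.s)) (hs : Surjective (pullback.snd g A.s)) :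
    ∃ i, Flat (pullback.snd g (A.t i)) ∧ Surjective (pullback.snd g (A.t i)) := by
  haveI : ∀ (i i' : I) (a : i ⟶ i'), IsAffineHom (A.D.map a) := fun _ _ a => A.affine_map a
  haveI := A.compactSpace_obj
  obtain ⟨i, hi⟩ := LimBC.exists_at_flat A g hf
  let q := pullback.snd g (A.t i)
  haveI : Flat q := hi
  haveI : LocallyOfFinitePresentation q := MorphismProperty.pullback_snd _ _ ‹_›
  haveI : UniversallyOpen q := inferInstance
  obtain ⟨l, a, ha⟩ := exists_map_eq_top A.D A.c A.hc
    (⟨Set.range q, q.isOpenMap.isOpen_range⟩ : (A.D.obj i).Opens) (by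
    refine top_le_iff.mp fun y _ => ?_
    obtain ⟨z, hz⟩ := hs.surj y
    refine ⟨LimBC.pbπ A g i z, ?_⟩
    show (LimBC.pbπ A g i ≫ pullback.snd g (A.t i)) z = _
    rw [← hz, LimBC.pbπ_snd]
    rfl)
  have hl := LimBC.isPullback_map A g a
  refine ⟨l, MorphismProperty.of_isPullback hl hi, ⟨fun y => ?_⟩⟩
  obtain ⟨z, hz⟩ := ha.ge (show y ∈ (⊤ : (A.D.obj l).Opens) from trivial)
  obtain ⟨w, -, hw⟩ := Scheme.Pullback.exists_preimage_pullback z y hz
  refine ⟨hl.isoPullback.inv w, ?_⟩
  show (hl.isoPullback.inv ≫ pullback.snd g (A.t l)) w = y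
  rw [hl.isoPullback_inv_snd, hw]

end Sys

variable {I : Type u} [SmallCategory I] {D : I ⥤ Scheme.{u}} {c : Cone D} (hc : IsLimit c) [IsCofiltered I]
  [∀ (i i' : I) (f : i ⟶ i'), IsAffineHom (D.map f)] [∀ i, CompactSpace (D.obj i)]
  [∀ i, QuasiSeparatedSpace (D.obj i)] {j : I}

include hc in
theorem exists_flat_surjective_over {X Y : Over (D.obj j)} [QuasiCompact Y.hom] (v : X ⟶ Y) [QuasiCompact v.left]
    [LocallyOfFinitePresentation v.left] (hf : Flat ((Over.pullback (c.π.app j)).map v).left)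
    (hs : Surjective ((Over.pullback (c.π.app j)).map v).left) :
    ∃ (i : I) (a : i ⟶ j), Flat ((Over.pullback (D.map a)).map v).left ∧
      Surjective ((Over.pullback (D.map a)).map v).left := by
  haveI : CompactSpace Y.left := QuasiCompact.compactSpace_of_compactSpace Y.hom
  let A := LimBC.pb (LimBC.ofStage D c hc j) Y.hom
  have e := (isPullback_map_left (c.π.app j) v).flip.isoPullback_hom_fst
  have h0 : IsPullback (pullback.fst X.hom (c.π.app j)) ((Over.pullback (c.π.app j)).map v).left v.left A.s :=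
    isPullback_map_left (c.π.app j) v
  obtain ⟨φ, h1, h2⟩ := exists_at_flat_surjective A v.left
    (by rw [← h0.isoPullback_inv_snd]; infer_instance) (by rw [← h0.isoPullback_inv_snd]; infer_instance)
  have h3 : IsPullback (pullback.fst X.hom (D.map φ.hom)) ((Over.pullback (D.map φ.hom)).map v).left v.left
      (A.t φ) := isPullback_map_left (D.map φ.hom) v
  refine ⟨φ.left, φ.hom, ?_, ?_⟩
  · rw [← h3.isoPullback_hom_snd]; infer_instance
  · rw [← h3.isoPullback_hom_snd]; infer_instance

include hc in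
/-- A cartesian square over the limit is cartesian at some stage. -/
theorem exists_isPullback {R X Y : Over (D.obj j)} [LocallyOfFinitePresentation R.hom] [QuasiCompact R.hom]
    [QuasiSeparated R.hom] [LocallyOfFinitePresentation X.hom] [QuasiCompact X.hom] [QuasiSeparated X.hom]
    [LocallyOfFinitePresentation Y.hom] [QuasiSeparated Y.hom] (s t : R ⟶ X) (p : X ⟶ Y)
    (h : IsPullback ((Over.pullback (c.π.app j)).map s) ((Over.pullback (c.π.app j)).map t)
      ((Over.pullback (c.π.app j)).map p) ((Over.pullback (c.π.app j)).map p)) :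
    ∃ (i : I) (a : i ⟶ j), IsPullback ((Over.pullback (D.map a)).map s) ((Over.pullback (D.map a)).map t)
      ((Over.pullback (D.map a)).map p) ((Over.pullback (D.map a)).map p) := by
  obtain ⟨i, a, hw⟩ := exists_eq hc (s ≫ p) (t ≫ p) (by rw [Functor.map_comp, Functor.map_comp, h.w])
  let Fa := Over.pullback (D.map a)
  let s' := Fa.map s
  let t' := Fa.map t
  let p' := Fa.map p
  have w' : s' ≫ p' = t' ≫ p' := by simpa only [Functor.map_comp, Fa, s', t', p'] using hw
  haveI : LocallyOfFinitePresentation (Fa.obj R).hom := MorphismProperty.pullback_snd _ _ ‹_›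
  haveI : QuasiCompact (Fa.obj R).hom := MorphismProperty.pullback_snd _ _ ‹_›
  haveI : QuasiSeparated (Fa.obj R).hom := MorphismProperty.pullback_snd _ _ ‹_›
  haveI : LocallyOfFinitePresentation (Fa.obj X).hom := MorphismProperty.pullback_snd _ _ ‹_›
  haveI : QuasiCompact (Fa.obj X).hom := MorphismProperty.pullback_snd _ _ ‹_›
  haveI : QuasiSeparated (Fa.obj X).hom := MorphismProperty.pullback_snd _ _ ‹_›
  haveI : LocallyOfFinitePresentation (Fa.obj Y).hom := MorphismProperty.pullback_snd _ _ ‹_›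
  haveI : QuasiSeparated (Fa.obj Y).hom := MorphismProperty.pullback_snd _ _ ‹_›
  haveI : LocallyOfFinitePresentation (p'.left ≫ (Fa.obj Y).hom) := by rw [Over.w p']; infer_instance
  haveI : QuasiCompact (p'.left ≫ (Fa.obj Y).hom) := by rw [Over.w p']; infer_instance
  haveI : QuasiSeparated (p'.left ≫ (Fa.obj Y).hom) := by rw [Over.w p']; infer_instance
  haveI : LocallyOfFinitePresentation p'.left := AlgSpLib.lfp_of_comp_lft p'.left (Fa.obj Y).hom
  haveI : QuasiCompact p'.left := QuasiCompact.of_comp p'.left (Fa.obj Y).hom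
  haveI : QuasiSeparated p'.left := QuasiSeparated.of_comp p'.left (Fa.obj Y).hom
  let P : Over (D.obj i) := Over.mk (pullback.fst p'.left p'.left ≫ (Fa.obj X).hom)
  haveI : LocallyOfFinitePresentation P.hom :=
    inferInstanceAs (LocallyOfFinitePresentation (pullback.fst p'.left p'.left ≫ (Fa.obj X).hom))
  haveI : QuasiCompact P.hom := inferInstanceAs (QuasiCompact (pullback.fst p'.left p'.left ≫ (Fa.obj X).hom))
  haveI : QuasiSeparated P.hom :=
    inferInstanceAs (QuasiSeparated (pullback.fst p'.left p'.left ≫ (Fa.obj X).hom))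
  let P₁ : P ⟶ Fa.obj X := Over.homMk (pullback.fst p'.left p'.left) rfl
  let P₂ : P ⟶ Fa.obj X := Over.homMk (pullback.snd p'.left p'.left) (by
    show _ = pullback.fst p'.left p'.left ≫ (Fa.obj X).hom
    rw [← Over.w p', pullback.condition_assoc])
  have hP : IsPullback P₁ P₂ p' p' :=
    IsPullback.of_map (Over.forget _) (Over.OverMorphism.ext pullback.condition) (IsPullback.of_hasPullback _ _)
  let k : Fa.obj R ⟶ P := hP.lift s' t' w'
  have hk1 : k ≫ P₁ = s' := hP.lift_fst _ _ _
  have hk2 : k ≫ P₂ = t' := hP.lift_snd _ _ _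
  let F := Over.pullback (c.π.app i)
  have h' : IsPullback (F.map s') (F.map t') (F.map p') (F.map p') :=
    h.of_iso (compIso c a R).symm (compIso c a X).symm (compIso c a X).symm (compIso c a Y).symm
      (by rw [Iso.symm_hom, Iso.symm_hom, Iso.eq_inv_comp, ← Category.assoc, Iso.comp_inv_eq]; exact (compIso_naturality c a s).symm)
      (by rw [Iso.symm_hom, Iso.symm_hom, Iso.eq_inv_comp, ← Category.assoc, Iso.comp_inv_eq]; exact (compIso_naturality c a t).symm)
      (by rw [Iso.symm_hom, Iso.symm_hom, Iso.eq_inv_comp, ← Category.assoc, Iso.comp_inv_eq]; exact (compIso_naturality c a p).symm)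
      (by rw [Iso.symm_hom, Iso.symm_hom, Iso.eq_inv_comp, ← Category.assoc, Iso.comp_inv_eq]; exact (compIso_naturality c a p).symm)
  haveI : IsIso (F.map k) := by
    have e : F.map k = (h'.isoIsPullback _ _ (hP.map F)).hom := (hP.map F).hom_ext
      (by rw [IsPullback.isoIsPullback_hom_fst, ← Functor.map_comp, hk1])
      (by rw [IsPullback.isoIsPullback_hom_snd, ← Functor.map_comp, hk2])
    rw [e]; infer_instance
  obtain ⟨l, b, hb⟩ := TorsorLimLib.exists_isIso hc k
  refine ⟨l, b ≫ a, ?_⟩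
  let G := Over.pullback (D.map b)
  have h1 : IsPullback (G.map s') (G.map t') (G.map p') (G.map p') :=
    (hP.map G).of_iso (asIso (G.map k)).symm (Iso.refl _) (Iso.refl _) (Iso.refl _)
      (by simp [← hk1]) (by simp [← hk2]) (by simp) (by simp)
  let e := fun Z : Over (D.obj j) => compIso₂ (D.map_comp b a).symm Z
  exact h1.of_iso (e R) (e X) (e X) (e Y) (compIso₂_naturality _ s) (compIso₂_naturality _ t)
    (compIso₂_naturality _ p) (compIso₂_naturality _ p)

include hc in
/-- **A flat quotient over the limit exists at some stage.** -/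
theorem exists_hasQuot {R X : Over (D.obj j)} [LocallyOfFinitePresentation R.hom] [QuasiCompact R.hom]
    [QuasiSeparated R.hom] [LocallyOfFinitePresentation X.hom] [QuasiCompact X.hom] [QuasiSeparated X.hom]
    (s t : R ⟶ X) (h : HasQuot ((Over.pullback (c.π.app j)).map s) ((Over.pullback (c.π.app j)).map t)) :
    ∃ (i : I) (a : i ⟶ j), HasQuot ((Over.pullback (D.map a)).map s) ((Over.pullback (D.map a)).map t) := by
  obtain ⟨Y, p, hp⟩ := h
  haveI : LocallyOfFinitePresentation (Red.bc (c.π.app j) X).hom := MorphismProperty.pullback_snd _ _ ‹_›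
  haveI : QuasiCompact (Red.bc (c.π.app j) X).hom := MorphismProperty.pullback_snd _ _ ‹_›
  haveI : QuasiSeparated (Red.bc (c.π.app j) X).hom := MorphismProperty.pullback_snd _ _ ‹_›
  haveI : QuasiCompact (Red.bc (c.π.app j) R).hom := MorphismProperty.pullback_snd _ _ ‹_›
  obtain ⟨hY1, hY2, hY3⟩ := fp_of_isQuot (R := Red.bc (c.π.app j) R) (X := Red.bc (c.π.app j) X) hp
  obtain ⟨i₀, Y₀, f₀, q, hf1, hf2, hf3, hsq⟩ := Groth.Agent.S0591.result D c hc Y.left Y.hom
  obtain ⟨k, a, b, -⟩ := IsCofilteredOrEmpty.cone_objs j i₀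
  let Yk : Over (D.obj k) := Red.bc (D.map b) (Over.mk f₀)
  haveI : LocallyOfFinitePresentation Yk.hom := MorphismProperty.pullback_snd _ _ hf1
  haveI : QuasiCompact Yk.hom := MorphismProperty.pullback_snd _ _ hf2
  haveI : QuasiSeparated Yk.hom := MorphismProperty.pullback_snd _ _ hf3
  let e : Red.bc (c.π.app k) Yk ≅ Y :=
    compIso c b (Over.mk f₀) ≪≫ (Over.isoMk hsq.isoPullback hsq.isoPullback_hom_snd).symm
  haveI : QuasiCompact (Red.bc (D.map a) X).hom := MorphismProperty.pullback_snd _ _ ‹_›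
  haveI : QuasiSeparated (Red.bc (D.map a) X).hom := MorphismProperty.pullback_snd _ _ ‹_›
  obtain ⟨l, u, v, hv⟩ := exists_descend hc (X := Red.bc (D.map a) X) (Y := Yk)
    ((compIso c a X).hom ≫ p ≫ e.inv)
  let Fu := Over.pullback (D.map u)
  let Fl := Over.pullback (c.π.app l)
  let s' := Fu.map ((Over.pullback (D.map a)).map s)
  let t' := Fu.map ((Over.pullback (D.map a)).map t)
  let αX := compIso c u (Red.bc (D.map a) X) ≪≫ compIso c a X
  let αR := compIso c u (Red.bc (D.map a) R) ≪≫ compIso c a R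
  let αY := compIso c u Yk ≪≫ e
  have hn : ∀ w : R ⟶ X, Fl.map (Fu.map ((Over.pullback (D.map a)).map w)) ≫ αX.hom =
      αR.hom ≫ (Over.pullback (c.π.app j)).map w := fun w => by
    simp only [αX, αR, Iso.trans_hom, Category.assoc]
    rw [reassoc_of% (compIso_naturality c u ((Over.pullback (D.map a)).map w)), compIso_naturality c a w]
  have hpv : Fl.map v ≫ αY.hom = αX.hom ≫ p := by
    simp only [αX, αY, Fl, hv, Iso.trans_hom, Category.assoc, Iso.inv_hom_id_assoc, Iso.inv_hom_id, Category.comp_id]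
  have hlim : IsQuot (Fl.map s') (Fl.map t') (Fl.map v) :=
    isQuot_iso αR.symm αX.symm αY.symm
      (by rw [Iso.symm_hom, Iso.symm_hom, Iso.comp_inv_eq, Category.assoc, Iso.eq_inv_comp]; exact (hn s).symm)
      (by rw [Iso.symm_hom, Iso.symm_hom, Iso.comp_inv_eq, Category.assoc, Iso.eq_inv_comp]; exact (hn t).symm)
      (by rw [Iso.symm_hom, Iso.symm_hom, Iso.comp_inv_eq, Category.assoc, Iso.eq_inv_comp]; exact hpv.symm) hp
  haveI : LocallyOfFinitePresentation (Fu.obj (Red.bc (D.map a) R)).hom :=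
    MorphismProperty.pullback_snd _ _ (MorphismProperty.pullback_snd _ _ ‹_›)
  haveI : QuasiCompact (Fu.obj (Red.bc (D.map a) R)).hom :=
    MorphismProperty.pullback_snd _ _ (MorphismProperty.pullback_snd _ _ ‹_›)
  haveI : QuasiSeparated (Fu.obj (Red.bc (D.map a) R)).hom :=
    MorphismProperty.pullback_snd _ _ (MorphismProperty.pullback_snd _ _ ‹_›)
  haveI : LocallyOfFinitePresentation (Fu.obj (Red.bc (D.map a) X)).hom :=
    MorphismProperty.pullback_snd _ _ (MorphismProperty.pullback_snd _ _ ‹_›)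
  haveI : QuasiCompact (Fu.obj (Red.bc (D.map a) X)).hom :=
    MorphismProperty.pullback_snd _ _ (MorphismProperty.pullback_snd _ _ ‹_›)
  haveI : QuasiSeparated (Fu.obj (Red.bc (D.map a) X)).hom :=
    MorphismProperty.pullback_snd _ _ (MorphismProperty.pullback_snd _ _ ‹_›)
  haveI : LocallyOfFinitePresentation (Fu.obj Yk).hom := MorphismProperty.pullback_snd _ _ ‹_›
  haveI : QuasiCompact (Fu.obj Yk).hom := MorphismProperty.pullback_snd _ _ ‹_›
  haveI : QuasiSeparated (Fu.obj Yk).hom := MorphismProperty.pullback_snd _ _ ‹_›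
  haveI : LocallyOfFinitePresentation (v.left ≫ (Fu.obj Yk).hom) := by rw [Over.w v]; infer_instance
  haveI : QuasiCompact (v.left ≫ (Fu.obj Yk).hom) := by rw [Over.w v]; infer_instance
  haveI : LocallyOfFinitePresentation v.left := AlgSpLib.lfp_of_comp_lft v.left (Fu.obj Yk).hom
  haveI : QuasiCompact v.left := QuasiCompact.of_comp v.left (Fu.obj Yk).hom
  obtain ⟨m₁, r₁, hm₁⟩ := exists_isPullback hc s' t' v hlim.2.2.2
  obtain ⟨m₂, r₂, hf, hs⟩ := exists_flat_surjective_over hc v hlim.1 hlim.2.1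
  obtain ⟨m, b₁, b₂, hb⟩ := IsCofiltered.cospan r₁ r₂
  have hb₁ : D.map b₁ ≫ D.map r₁ = D.map (b₁ ≫ r₁) := (D.map_comp _ _).symm
  have hb₂ : D.map b₂ ≫ D.map r₂ = D.map (b₁ ≫ r₁) := by rw [← D.map_comp, hb]
  have e₂ : (Over.pullback (D.map (b₁ ≫ r₁))).map v = (compIso₂ hb₂ _).inv ≫
      (Over.pullback (D.map b₂)).map ((Over.pullback (D.map r₂)).map v) ≫ (compIso₂ hb₂ _).hom := by
    rw [compIso₂_naturality, Iso.inv_hom_id_assoc]
  haveI : Flat ((Over.pullback (D.map b₂)).map ((Over.pullback (D.map r₂)).map v)).left :=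
    MorphismProperty.of_isPullback (isPullback_map_left _ _) hf
  haveI : Surjective ((Over.pullback (D.map b₂)).map ((Over.pullback (D.map r₂)).map v)).left :=
    MorphismProperty.of_isPullback (isPullback_map_left _ _) hs
  have hq : IsQuot ((Over.pullback (D.map (b₁ ≫ r₁))).map s') ((Over.pullback (D.map (b₁ ≫ r₁))).map t')
      ((Over.pullback (D.map (b₁ ≫ r₁))).map v) := by
    refine ⟨?_, ?_, MorphismProperty.of_isPullback (isPullback_map_left _ v) ‹_›, ?_⟩
    · rw [e₂]; simp only [Over.comp_left]; infer_instance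
    · rw [e₂]; simp only [Over.comp_left]; infer_instance
    · exact (hm₁.map (Over.pullback (D.map b₁))).of_iso (compIso₂ hb₁ _) (compIso₂ hb₁ _) (compIso₂ hb₁ _)
        (compIso₂ hb₁ _) (compIso₂_naturality _ _) (compIso₂_naturality _ _) (compIso₂_naturality _ _)
        (compIso₂_naturality _ _)
  refine ⟨m, (b₁ ≫ r₁) ≫ u ≫ a, hasQuot_nested (b := D.map ((b₁ ≫ r₁) ≫ u)) (g := D.map a)
    (by rw [← D.map_comp, Category.assoc]) ?_⟩
  exact hasQuot_nested (b := D.map (b₁ ≫ r₁)) (g := D.map u) (D.map_comp _ _).symm ⟨_, _, hq⟩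

end QuotLimLib
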